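import Groth.Agent.Lib.Dual.Eval
import Mathlib.RingTheory.Coalgebra.GroupLike
import Mathlib.RingTheory.Bialgebra.GroupLike
import Mathlib.RingTheory.HopfAlgebra.TensorProduct
import Mathlib.RingTheory.Bialgebra.Convolution
import Mathlib.RingTheory.TensorProduct.Free
import Mathlib.LinearAlgebra.Dual.Basis

/-!
Points of the dual of a finite free bialgebra are the group-like elements of the base change.
-/

universe u v w

set_option linter.style.haveILetI false

open TensorProduct WithConv

namespace GrothLib.Dual

variable {k : Type u} [CommRing k] {A : Type v} [CommRing A] [Bialgebra k A] [Coalgebra.IsCocomm k A]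
  {ι : Type*} [Fintype ι] (b : Module.Basis ι k A) {R : Type w} [CommRing R] [Algebra k R]

/-- pairing of the base change with the dual -/
noncomputable def pairR (z : R ⊗[k] A) : CartDual.D k A →ₗ[k] R where
  toFun φ := TensorProduct.rid k R ((CartDual.toDual k A φ).lTensor R z)
  map_add' φ ψ := by simp [LinearMap.lTensor_add]
  map_smul' c φ := by simp [LinearMap.lTensor_smul]

theorem pairR_tmul (r : R) (a : A) (φ : CartDual.D k A) : pairR (r ⊗ₜ a) φ = φ a • r := by simp [pairR]

theorem pairR_add (z z' : R ⊗[k] A) (φ : CartDual.D k A) : pairR (z + z') φ = pairR z φ + pairR z' φ := by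
  simp [pairR]

theorem repr_eq_pairR (z : R ⊗[k] A) (i : ι) :
    (Algebra.TensorProduct.basis R b).repr z i = pairR z (toConv (b.coord i)) := by
  induction z using TensorProduct.induction_on with
  | zero => simp [pairR]
  | tmul r a => simp [pairR_tmul, Algebra.smul_def, mul_comm]
  | add z z' hz hz' => simp [pairR_add, hz, hz']

theorem repr_comul (z : R ⊗[k] A) (i j : ι) :
    ((Algebra.TensorProduct.basis R b).tensorProduct (Algebra.TensorProduct.basis R b)).repr
      (Coalgebra.comul (R := R) z) (i, j) = pairR z (toConv (b.coord i) * toConv (b.coord j)) := by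
  induction z using TensorProduct.induction_on with
  | zero => simp [pairR]
  | tmul r a =>
    rw [pairR_tmul, TensorProduct.comul_tmul, LinearMap.convMul_apply]
    induction Coalgebra.comul (R := k) a using TensorProduct.induction_on with
    | zero => simp
    | tmul c d =>
      simp [Module.Basis.tensorProduct_repr_tmul_apply, Algebra.smul_def, mul_comm, mul_assoc, mul_left_comm]
    | add c d hc hd => simp only [tmul_add, map_add, Finsupp.add_apply, hc, hd, add_smul]
  | add z z' hz hz' => simp [pairR_add, hz, hz']

theorem counit_eq_pairR (z : R ⊗[k] A) : Coalgebra.counit (R := R) z = pairR z 1 := by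
  induction z using TensorProduct.induction_on with
  | zero => simp [pairR]
  | tmul r a => simp [pairR_tmul, Algebra.smul_def, mul_comm]
  | add z z' hz hz' => simp [pairR_add, hz, hz']

include b in
theorem isGroupLikeElem_iff (z : R ⊗[k] A) : IsGroupLikeElem R z ↔
    pairR z 1 = 1 ∧ ∀ φ ψ, pairR z (φ * ψ) = pairR z φ * pairR z ψ := by
  classical
  constructor
  · intro hz
    refine ⟨by rw [← counit_eq_pairR]; exact hz.counit_eq_one, fun φ ψ => ?_⟩
    have h : ((pairR z).comp (LinearMap.mul' k (CartDual.D k A))) =
        (LinearMap.mul' k R).comp (TensorProduct.map (pairR z) (pairR z)) := by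
      let bD := b.dualBasis.map (CartDual.toDual k A).symm
      have hbD : ∀ i, bD i = toConv (b.coord i) := fun i => by simp [bD, Module.Basis.coe_dualBasis]
      refine (bD.tensorProduct bD).ext fun ⟨i, j⟩ => ?_
      simp only [Module.Basis.tensorProduct_apply, LinearMap.comp_apply, LinearMap.mul'_apply,
        TensorProduct.map_tmul, hbD]
      rw [← repr_comul b, hz.comul_eq_tmul_self, Module.Basis.tensorProduct_repr_tmul_apply, repr_eq_pairR,
        repr_eq_pairR, smul_eq_mul, mul_comm]
    simpa using LinearMap.congr_fun h (φ ⊗ₜ ψ)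
  · rintro ⟨h1, hmul⟩
    refine ⟨by rw [counit_eq_pairR, h1], ?_⟩
    refine ((Algebra.TensorProduct.basis R b).tensorProduct (Algebra.TensorProduct.basis R b)).ext_elem
      fun ⟨i, j⟩ => ?_
    rw [repr_comul b, hmul, Module.Basis.tensorProduct_repr_tmul_apply, repr_eq_pairR, repr_eq_pairR,
      smul_eq_mul, mul_comm]

variable [Module.Finite k A] [Module.Projective k A]

theorem pairR_mul (z z' : R ⊗[k] A) (φ : CartDual.D k A) :
    pairR (z * z') φ = LinearMap.mul' k R (TensorProduct.map (pairR z) (pairR z') (Coalgebra.comul (R := k) φ)) := by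
  induction z using TensorProduct.induction_on with
  | zero =>
    rw [zero_mul, show pairR (0 : R ⊗[k] A) = 0 from LinearMap.ext fun ψ => by simp [pairR]]
    simp
  | add z w hz hw =>
    rw [add_mul, pairR_add, hz, hw, show pairR (z + w) = pairR z + pairR w from LinearMap.ext (pairR_add z w),
      TensorProduct.map_add_left]
    simp
  | tmul r a =>
    induction z' using TensorProduct.induction_on with
    | zero =>
      rw [mul_zero, show pairR (0 : R ⊗[k] A) = 0 from LinearMap.ext fun ψ => by simp [pairR]]
      simp
    | add z w hz hw =>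
      rw [mul_add, pairR_add, hz, hw, show pairR (z + w) = pairR z + pairR w from LinearMap.ext (pairR_add z w),
        TensorProduct.map_add_right]
      simp
    | tmul s c =>
      rw [Algebra.TensorProduct.tmul_mul_tmul, pairR_tmul, ← CartDual.ev₂_coalgebra_comul_tmul k A φ a c]
      induction Coalgebra.comul (R := k) φ using TensorProduct.induction_on with
      | zero => simp
      | tmul x y => simp [pairR_tmul, smul_smul, mul_comm]
      | add x y hx hy => simp only [map_add, LinearMap.add_apply, add_smul, hx, hy]

include b in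
theorem exists_mulEquiv_groupLike :
    ∃ e : GroupLike R (R ⊗[k] A) ≃* WithConv (CartDual.D k A →ₐ[k] R),
      ∀ (g : GroupLike R (R ⊗[k] A)) (x : CartDual.D k A),
        (e g).ofConv x = TensorProduct.rid k R (((CartDual.toDual k A x).lTensor R) g.val) := by
  classical
  have inj : ∀ z z' : R ⊗[k] A, (∀ φ, pairR z φ = pairR z' φ) → z = z' := fun z z' h =>
    (Algebra.TensorProduct.basis R b).ext_elem fun i => by rw [repr_eq_pairR, repr_eq_pairR, h]
  let back : (CartDual.D k A →ₐ[k] R) → R ⊗[k] A := fun f => ∑ i, f (toConv (b.coord i)) ⊗ₜ b i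
  have hback : ∀ (f : CartDual.D k A →ₐ[k] R) φ, pairR (back f) φ = f φ := fun f φ => by
    have h : φ = ∑ i, φ (b i) • toConv (b.coord i) :=
      WithConv.ext (b.ext fun j => by simp [WithConv.ofConv_sum, LinearMap.sum_apply, Finsupp.single_apply])
    conv_rhs => rw [h, map_sum]
    simp only [back, map_smul]
    rw [show pairR (∑ i, f (toConv (b.coord i)) ⊗ₜ[k] b i) φ =
      ∑ i, pairR (f (toConv (b.coord i)) ⊗ₜ[k] b i) φ by simp [pairR]]
    simp [pairR_tmul]
  let toFun : GroupLike R (R ⊗[k] A) → WithConv (CartDual.D k A →ₐ[k] R) := fun g => toConv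
    (AlgHom.ofLinearMap (pairR g.val) ((isGroupLikeElem_iff b g.val).1 g.isGroupLikeElem_val).1
      ((isGroupLikeElem_iff b g.val).1 g.isGroupLikeElem_val).2)
  let e : GroupLike R (R ⊗[k] A) ≃ WithConv (CartDual.D k A →ₐ[k] R) :=
    { toFun := toFun
      invFun := fun f => ⟨back f.ofConv, (isGroupLikeElem_iff b _).2
        ⟨(hback _ 1).trans (map_one f.ofConv), fun φ ψ => by rw [hback, hback, hback, map_mul]⟩⟩
      left_inv := fun g => GroupLike.ext (inj _ _ fun φ => hback _ φ)
      right_inv := fun f => WithConv.ext (AlgHom.ext fun φ => hback f.ofConv φ) }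
  refine ⟨{ e with map_mul' := fun g g' => WithConv.ext (AlgHom.ext fun φ => ?_) }, fun g x => rfl⟩
  change pairR (g.val * g'.val) φ = (toFun g * toFun g').ofConv φ
  rw [pairR_mul]
  refine Eq.trans ?_ (AlgHom.convMul_apply _ _ φ).symm
  induction Coalgebra.comul (R := k) φ using TensorProduct.induction_on with
  | zero => simp
  | tmul x y => simp [toFun]
  | add x y hx hy => simp only [map_add, hx, hy]

end GrothLib.Dual
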