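import Groth.Agent.Lib.Dual.Eval
import Groth.Prelude.Def_AlphaP
import Mathlib.Data.Nat.Prime.Factorial
import Mathlib.Data.ZMod.Basic

/-!
The group scheme `α_p` is its own Cartier dual.
-/

universe u

set_option linter.style.haveILetI false

open TensorProduct WithConv

namespace GrothLib.Dual

variable (p : ℕ) [hp : Fact p.Prime] (R : Type u) [CommRing R] [CharP R p]

theorem alphaP_comul_pow (i : ℕ) : Coalgebra.comul (R := R) (AlphaP.x p R ^ i) =
    ∑ j ∈ Finset.range (i + 1), ((i.choose j : ℕ) : R) • ((AlphaP.x p R ^ j) ⊗ₜ[R] (AlphaP.x p R ^ (i - j))) := by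
  rw [Bialgebra.comul_pow, AlphaP.comul_x, (Commute.all _ _).add_pow]
  refine Finset.sum_congr rfl fun j _ => ?_
  rw [Algebra.TensorProduct.tmul_pow, Algebra.TensorProduct.tmul_pow, one_pow, one_pow,
    Algebra.TensorProduct.tmul_mul_tmul, one_mul, mul_one, ← nsmul_eq_mul', Nat.cast_smul_eq_nsmul]

theorem isUnit_factorial {n : ℕ} (hn : n < p) : IsUnit (n.factorial : R) := by
  have h : IsUnit (n.factorial : ZMod p) := (ZMod.isUnit_iff_coprime _ _).2
    ((Nat.Prime.coprime_iff_not_dvd hp.out).2 fun h => not_le.2 hn ((hp.out.dvd_factorial).1 h)).symm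
  simpa using h.map (ZMod.castHom (dvd_refl p) R)

theorem exists_dual_alphaP : ∃ e : CartDual.D R (AlphaP.A p R) ≃ₐc[R] AlphaP.A p R,
    ∀ i : ℕ, i < p → (e.symm (AlphaP.x p R)) (AlphaP.x p R ^ i) = if i = 1 then 1 else 0 := by
  classical
  haveI : Nontrivial R := CharP.nontrivial_of_char_ne_one hp.out.ne_one
  let b := AlphaP.basis p R
  let one' : Fin p := ⟨1, hp.out.one_lt⟩
  let δ : CartDual.D R (AlphaP.A p R) := toConv (b.coord one')
  have hδ : ∀ i, i < p → δ (AlphaP.x p R ^ i) = if i = 1 then 1 else 0 := fun i hi => by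
    change b.coord one' _ = _
    rw [show AlphaP.x p R ^ i = b ⟨i, hi⟩ from (AlphaP.basis_apply (p := p) (R := R) ⟨i, hi⟩).symm,
      Module.Basis.coord_apply, Module.Basis.repr_self, Finsupp.single_apply]
    simp [one', Fin.ext_iff]
  have hpow : ∀ n i, i < p → (δ ^ n) (AlphaP.x p R ^ i) = if i = n then (n.factorial : R) else 0 := by
    intro n
    induction n with
    | zero =>
      intro i hi
      rw [pow_zero, LinearMap.convOne_apply, Bialgebra.counit_pow, AlphaP.counit_x, zero_pow_eq]
      split_ifs <;> simp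
    | succ n ih =>
      intro i hi
      rw [pow_succ, LinearMap.convMul_apply, alphaP_comul_pow, map_sum, map_sum]
      simp only [map_smul, TensorProduct.map_tmul, LinearMap.mul'_apply]
      rw [Finset.sum_congr rfl fun j hj => by
        rw [ih j (by simp only [Finset.mem_range] at hj; omega), hδ (i - j) (by omega)]]
      by_cases hin : i = n + 1
      · rw [if_pos hin, Finset.sum_eq_single n]
        · simp [hin, Nat.factorial_succ]
        · intro j _ hj; simp [hj]
        · simp [hin]
      · rw [if_neg hin]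
        refine Finset.sum_eq_zero fun j hj => ?_
        simp only [Finset.mem_range] at hj
        by_cases hjn : j = n
        · subst hjn
          rw [if_neg (by omega : ¬ i - j = 1)]
          simp
        · simp [hjn]
  have hδp : δ ^ p = 0 := WithConv.ext (b.ext fun i => by
    rw [AlphaP.basis_apply]
    change (δ ^ p) (AlphaP.x p R ^ (i : ℕ)) = 0
    rw [hpow p i i.2, if_neg (by omega)])
  let L : AlphaP.A p R →ₐ[R] CartDual.D R (AlphaP.A p R) := AlphaP.lift p R δ hδp
  have hLx : L (AlphaP.x p R) = δ := AlphaP.lift_x _ _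
  have hLsum : ∀ a, L a = ∑ i : Fin p, b.repr a i • δ ^ (i : ℕ) := fun a => by
    conv_lhs => rw [← b.sum_repr a, map_sum]
    exact Finset.sum_congr rfl fun i _ => by rw [map_smul, AlphaP.basis_apply, map_pow, hLx]
  have hbij : Function.Bijective L := by
    have hcoord : ∀ a (j : Fin p), (L a) (AlphaP.x p R ^ (j : ℕ)) = b.repr a j * ((j : ℕ).factorial : R) := fun a j => by
      rw [hLsum]
      rw [WithConv.ofConv_sum, LinearMap.sum_apply, Finset.sum_eq_single j]
      · rw [WithConv.ofConv_smul, LinearMap.smul_apply, hpow _ _ j.2, if_pos rfl, smul_eq_mul]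
      · intro i _ hi
        rw [WithConv.ofConv_smul, LinearMap.smul_apply, hpow _ _ j.2, if_neg (fun e => hi (Fin.ext e.symm)),
          smul_zero]
      · simp
    refine ⟨fun a c h => b.ext_elem fun j => (isUnit_factorial p R j.2).mul_left_injective ?_, fun φ => ?_⟩
    · change b.repr a j * _ = b.repr c j * _
      rw [← hcoord, ← hcoord, h]
    · refine ⟨∑ j : Fin p, (φ (b j) * ((isUnit_factorial p R j.2).unit⁻¹ : Rˣ)) • b j,
        WithConv.ext (b.ext fun j => ?_)⟩
      rw [AlphaP.basis_apply]
      refine (hcoord _ j).trans ?_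
      rw [Module.Basis.repr_sum_self]
      change φ (b j) * _ * _ = φ (AlphaP.x p R ^ (j : ℕ))
      rw [mul_assoc, IsUnit.val_inv_mul, mul_one, AlphaP.basis_apply]
  have hder : ∀ a c : AlphaP.A p R, δ (a * c) = Coalgebra.counit (R := R) a * δ c + Coalgebra.counit (R := R) c * δ a := by
    have key : (LinearMap.mul R (AlphaP.A p R)).compr₂ δ.ofConv =
        (LinearMap.mul R R).compl₁₂ (Coalgebra.counit (R := R)) δ.ofConv +
          (LinearMap.mul R R).compl₁₂ δ.ofConv (Coalgebra.counit (R := R)) := by
      refine b.ext fun i => b.ext fun j => ?_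
      simp only [LinearMap.compr₂_apply, LinearMap.add_apply, LinearMap.compl₁₂_apply, LinearMap.mul_apply']
      rw [AlphaP.basis_apply, AlphaP.basis_apply, Bialgebra.counit_pow, Bialgebra.counit_pow, AlphaP.counit_x,
        ← pow_add]
      change δ _ = _ * δ _ + δ _ * _
      rw [hδ _ i.2, hδ _ j.2]
      have hp2 := hp.out.two_le
      by_cases hlt : (i : ℕ) + j < p
      · rw [hδ _ hlt, zero_pow_eq, zero_pow_eq]
        split_ifs <;> (try omega) <;> simp
      · rw [AlphaP.x_pow_of_le p R (not_lt.1 hlt), map_zero, zero_pow (by omega), zero_pow (by omega),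
          zero_mul, mul_zero, add_zero]
    intro a c
    have h := LinearMap.congr_fun₂ key a c
    simp only [LinearMap.compr₂_apply, LinearMap.add_apply, LinearMap.compl₁₂_apply, LinearMap.mul_apply'] at h
    rw [h]
    change _ + δ a * _ = _
    rw [mul_comm (δ a)]
  have hε : (Bialgebra.counitAlgHom R (CartDual.D R (AlphaP.A p R))).comp L = Bialgebra.counitAlgHom R _ := by
    refine AlphaP.algHom_ext ?_
    change (L (AlphaP.x p R)) 1 = Coalgebra.counit (R := R) (AlphaP.x p R)
    rw [hLx, AlphaP.counit_x]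
    have h := hδ 0 hp.out.pos
    simpa using h
  have hcomul : (Algebra.TensorProduct.map L L).comp (Bialgebra.comulAlgHom R _) =
      (Bialgebra.comulAlgHom R _).comp L := by
    refine AlphaP.algHom_ext ?_
    change Algebra.TensorProduct.map L L (Coalgebra.comul (R := R) (AlphaP.x p R)) =
      Coalgebra.comul (R := R) (L (AlphaP.x p R))
    rw [AlphaP.comul_x, map_add, Algebra.TensorProduct.map_tmul, Algebra.TensorProduct.map_tmul, map_one, hLx,
      comul_dual_eq_of_derivation δ hder]
  refine ⟨(BialgEquiv.ofAlgEquiv (AlgEquiv.ofBijective L hbij) hε hcomul).symm, fun i hi => ?_⟩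
  change (L (AlphaP.x p R)) _ = _
  rw [hLx, hδ i hi]

end GrothLib.Dual
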