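import Groth.Prelude.Def_CartDual2
import Mathlib.RingTheory.Bialgebra.Equiv
import Mathlib.LinearAlgebra.Dual.Lemmas

/-!
Evaluation into the double dual of a finite projective bialgebra: multiplicative and derivation
functionals on the dual are group-like and primitive elements.
-/

universe u v

set_option linter.style.haveILetI false

open TensorProduct WithConv

namespace GrothLib.Dual

variable {R : Type u} [CommRing R] {A : Type v} [Ring A] [Bialgebra R A] [Module.Finite R A]
  [Module.Projective R A]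

theorem eq_of_forall_pair {z z' : A ⊗[R] A} (h : ∀ φ ψ : CartDual.D R A,
    LinearMap.mul' R R (TensorProduct.map φ.ofConv ψ.ofConv z) =
      LinearMap.mul' R R (TensorProduct.map φ.ofConv ψ.ofConv z')) : z = z' := by
  rw [← sub_eq_zero, ← Module.forall_dual_apply_eq_zero_iff R]
  intro f
  obtain ⟨y, rfl⟩ := (CartDual.ev₂ R A).surjective f
  rw [map_sub, sub_eq_zero]
  induction y using TensorProduct.induction_on with
  | zero => simp
  | add y₁ y₂ h₁ h₂ => simp only [map_add, LinearMap.add_apply, h₁, h₂]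
  | tmul φ ψ => simpa [CartDual.ev₂_tmul_eq'] using h φ ψ

theorem eq_of_forall_apply {x y : A} (h : ∀ φ : CartDual.D R A, φ x = φ y) : x = y := by
  rw [← sub_eq_zero, ← Module.forall_dual_apply_eq_zero_iff R]
  intro f
  rw [map_sub, sub_eq_zero]
  exact h (toConv f)

theorem existsUnique_eval (f : CartDual.D R A →ₗ[R] R) : ∃! x : A, ∀ φ : CartDual.D R A, f φ = φ x := by
  obtain ⟨x, hx⟩ := (Module.bijective_dual_eval R A).2 (f ∘ₗ (CartDual.toDual R A).symm.toLinearMap)
  have hx' : ∀ φ : CartDual.D R A, f φ = φ x := fun φ => (LinearMap.congr_fun hx φ.ofConv).symm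
  exact ⟨x, hx', fun y hy => eq_of_forall_apply fun φ => by rw [← hy, hx']⟩

omit [Module.Finite R A] [Module.Projective R A] in
theorem conv_apply_of_groupLike {x : A} (hx : Coalgebra.comul (R := R) x = x ⊗ₜ x) (φ ψ : CartDual.D R A) :
    (φ * ψ) x = φ x * ψ x := by
  simp [LinearMap.convMul_apply, hx]

theorem comul_eq_tmul_self {x : A} (h : ∀ φ ψ : CartDual.D R A, (φ * ψ) x = φ x * ψ x) :
    Coalgebra.comul (R := R) x = x ⊗ₜ x :=
  eq_of_forall_pair fun φ ψ => by simpa [LinearMap.convMul_apply] using h φ ψ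

omit [Module.Finite R A] [Module.Projective R A] in
theorem conv_apply_of_primitive {x : A} (hx : Coalgebra.comul (R := R) x = x ⊗ₜ[R] 1 + 1 ⊗ₜ[R] x)
    (φ ψ : CartDual.D R A) : (φ * ψ) x = φ x * ψ 1 + φ 1 * ψ x := by
  simp [LinearMap.convMul_apply, hx]

theorem comul_eq_primitive {x : A} (h : ∀ φ ψ : CartDual.D R A, (φ * ψ) x = φ x * ψ 1 + φ 1 * ψ x) :
    Coalgebra.comul (R := R) x = x ⊗ₜ[R] 1 + 1 ⊗ₜ[R] x :=
  eq_of_forall_pair fun φ ψ => by simpa [LinearMap.convMul_apply] using h φ ψ

theorem comul_dual_eq_of_derivation (d : CartDual.D R A)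
    (hd : ∀ x y : A, d (x * y) = Coalgebra.counit (R := R) x * d y + Coalgebra.counit (R := R) y * d x) :
    Coalgebra.comul (R := R) d = d ⊗ₜ[R] (1 : CartDual.D R A) + (1 : CartDual.D R A) ⊗ₜ[R] d := by
  apply (CartDual.ev₂ R A).injective
  apply TensorProduct.ext'
  intro a b
  rw [CartDual.ev₂_coalgebra_comul_tmul, hd, map_add, LinearMap.add_apply, CartDual.ev₂_tmul, CartDual.ev₂_tmul]
  simp [mul_comm, add_comm]

theorem eval_bijective : Function.Bijective (CartDual.eval R A) := by
  refine ⟨fun x y h => eq_of_forall_apply (R := R) fun φ => ?_, fun f => ?_⟩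
  · rw [← CartDual.eval_apply, h, CartDual.eval_apply]
  · obtain ⟨x, hx, -⟩ := existsUnique_eval f.ofConv
    exact ⟨x, WithConv.ext (LinearMap.ext fun φ => (hx φ).symm)⟩

end GrothLib.Dual
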